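import Mathlib
import Cfsg.Prelude.Def_Transfer
import Cfsg.Prelude.Def_Solvable
set_option linter.all false

/-!
Basic facts on an extraspecial 2-subgroup `Q` with centre `{1, u}` and on the family
`Q x = O₂(C_G(x))` in the large extraspecial setting.
-/

set_option autoImplicit false
open Cfsg
open scoped commutatorElement

namespace Cfsg.Agent.H864

variable {G : Type*} [Group G]

/-- `Q` is (essentially) an extraspecial 2-group with centre `{1, u}`. -/
structure XS (Q : Subgroup G) (u : G) : Prop where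
  mem : u ∈ Q
  ne : u ≠ 1
  sq : u * u = 1
  cent : ∀ a ∈ Q, a * u = u * a
  comm : ∀ a ∈ Q, ∀ b ∈ Q, a * b * a⁻¹ = b ∨ a * b * a⁻¹ = b * u
  nondeg : ∀ a ∈ Q, a ≠ 1 → a ≠ u → ∃ b ∈ Q, b * a * b⁻¹ = a * u
  sq2 : ∀ a ∈ Q, a * a = 1 ∨ a * a = u

theorem XS.double {Q : Subgroup G} {u : G} (h : XS Q u) {S : Set G} (hfin : S.Finite)
    (hS : S ⊆ Q) : ∀ x ∈ Q, x ∉ Subgroup.closure (insert u S) →
      ∃ g ∈ Q, (∀ s ∈ S, g * s = s * g) ∧ g * x * g⁻¹ = x * u := by
  induction S, hfin using Set.Finite.induction_on with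
  | empty =>
    intro x hx hxc
    have h1 : x ≠ 1 := by
      rintro rfl; exact hxc (Subgroup.one_mem _)
    have h2 : x ≠ u := by
      rintro rfl; exact hxc (Subgroup.subset_closure (by simp))
    obtain ⟨b, hb, hb'⟩ := h.nondeg x hx h1 h2
    exact ⟨b, hb, by simp, hb'⟩
  | @insert w S _ _ ih =>
    intro x hx hxc
    have hw : w ∈ Q := hS (Set.mem_insert _ _)
    have hS' : S ⊆ Q := fun s hs => hS (Set.mem_insert_of_mem _ hs)
    have hsub : Subgroup.closure (insert u S) ≤ Subgroup.closure (insert u (insert w S)) := by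
      apply Subgroup.closure_mono
      apply Set.insert_subset_insert
      exact Set.subset_insert _ _
    have hwc : w ∈ Subgroup.closure (insert u (insert w S)) :=
      Subgroup.subset_closure (by simp)
    have hx1 : x ∉ Subgroup.closure (insert u S) := fun hh => hxc (hsub hh)
    have hx2 : x * w ∉ Subgroup.closure (insert u S) := by
      intro hh
      apply hxc
      have := Subgroup.mul_mem _ (hsub hh) (Subgroup.inv_mem _ hwc)
      simpa using this
    obtain ⟨a, ha, haS, hax⟩ := ih hS' x hx hx1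
    obtain ⟨k, hk, hkS, hkx⟩ := ih hS' (x * w) (Q.mul_mem hx hw) hx2
    rcases h.comm a ha w hw with haw | haw
    · refine ⟨a, ha, ?_, hax⟩
      intro s hs
      rcases hs with rfl | hs
      · exact mul_inv_eq_iff_eq_mul.mp haw
      · exact haS s hs
    · have e1 : k * (x * w) * k⁻¹ = (k * x * k⁻¹) * (k * w * k⁻¹) := by group
      rcases h.comm k hk x hx with hkx' | hkx'
      · -- k commutes with x, so not with w
        have e2 : k * w * k⁻¹ = w * u := by
          rw [e1, hkx'] at hkx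
          have : x * (k * w * k⁻¹) = x * (w * u) := by rw [hkx]; group
          exact mul_left_cancel this
        refine ⟨a * k, Q.mul_mem ha hk, ?_, ?_⟩
        · intro s hs
          rcases hs with rfl | hs
          · have : a * k * s * (a * k)⁻¹ = s := by
              calc a * k * s * (a * k)⁻¹ = a * (k * s * k⁻¹) * a⁻¹ := by group
                _ = a * (s * u) * a⁻¹ := by rw [e2]
                _ = (a * s * a⁻¹) * (a * u * a⁻¹) := by group
                _ = (s * u) * u := by rw [haw, mul_inv_eq_iff_eq_mul.mpr (h.cent a ha)]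
                _ = s := by rw [mul_assoc, h.sq, mul_one]
            exact mul_inv_eq_iff_eq_mul.mp this
          · rw [mul_assoc, hkS s hs, ← mul_assoc, haS s hs, mul_assoc]
        · calc a * k * x * (a * k)⁻¹ = a * (k * x * k⁻¹) * a⁻¹ := by group
            _ = a * x * a⁻¹ := by rw [hkx']
            _ = x * u := hax
      · -- k does not commute with x, so commutes with w
        have e2 : k * w * k⁻¹ = w := by
          rw [e1, hkx'] at hkx
          have h3 : x * (u * (k * w * k⁻¹)) = x * (w * u) := by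
            rw [← mul_assoc, hkx]; group
          have h4 := mul_left_cancel h3
          rw [h.cent w hw] at h4
          exact mul_left_cancel h4
        refine ⟨k, hk, ?_, hkx'⟩
        intro s hs
        rcases hs with rfl | hs
        · exact mul_inv_eq_iff_eq_mul.mp e2
        · exact hkS s hs

/-- Transport along an inner automorphism. -/
theorem XS.conj {Q Q' : Subgroup G} {u : G} (h : XS Q u) (g : G)
    (hQ' : ∀ a, a ∈ Q ↔ g * a * g⁻¹ ∈ Q') : XS Q' (g * u * g⁻¹) := by
  have back : ∀ a ∈ Q', g⁻¹ * a * g ∈ Q := by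
    intro a ha
    rw [hQ']
    have : g * (g⁻¹ * a * g) * g⁻¹ = a := by group
    rwa [this]
  refine ⟨(hQ' u).mp h.mem, ?_, ?_, ?_, ?_, ?_, ?_⟩
  · intro hh
    exact h.ne (conj_eq_one_iff.mp hh)
  · calc g * u * g⁻¹ * (g * u * g⁻¹) = g * (u * u) * g⁻¹ := by group
      _ = 1 := by rw [h.sq]; group
  · intro a ha
    have := h.cent _ (back a ha)
    calc a * (g * u * g⁻¹) = g * ((g⁻¹ * a * g) * u) * g⁻¹ := by group
      _ = g * (u * (g⁻¹ * a * g)) * g⁻¹ := by rw [this]
      _ = g * u * g⁻¹ * a := by group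
  · intro a ha b hb
    have e : a * b * a⁻¹ = g * ((g⁻¹ * a * g) * (g⁻¹ * b * g) * (g⁻¹ * a * g)⁻¹) * g⁻¹ := by
      group
    rcases h.comm _ (back a ha) _ (back b hb) with h1 | h1
    · left; rw [e, h1]; group
    · right; rw [e, h1]; group
  · intro a ha ha1 hau
    obtain ⟨b, hb, hb'⟩ := h.nondeg _ (back a ha)
      (by
        intro hh
        apply ha1
        have : a = g * (g⁻¹ * a * g) * g⁻¹ := by group
        rw [this, hh]; group)
      (by
        intro hh
        apply hau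
        have : a = g * (g⁻¹ * a * g) * g⁻¹ := by group
        rw [this, hh])
    refine ⟨g * b * g⁻¹, (hQ' b).mp hb, ?_⟩
    calc g * b * g⁻¹ * a * (g * b * g⁻¹)⁻¹ = g * (b * (g⁻¹ * a * g) * b⁻¹) * g⁻¹ := by group
      _ = g * ((g⁻¹ * a * g) * u) * g⁻¹ := by rw [hb']
      _ = a * (g * u * g⁻¹) := by group
  · intro a ha
    have e : a * a = g * ((g⁻¹ * a * g) * (g⁻¹ * a * g)) * g⁻¹ := by group
    rcases h.sq2 _ (back a ha) with h1 | h1
    · left; rw [e, h1]; group
    · right; rw [e, h1]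

/-- From the definition of an extraspecial 2-group. -/
theorem XS.of_isExtraspecial {Q : Subgroup G} {z : G} (hE : Cfsg.IsExtraspecial 2 ↥Q)
    (hzQ : z ∈ Q) (hz1 : z ≠ 1) (hcent : ∀ a ∈ Q, a * z = z * a) : XS Q z := by
  obtain ⟨⟨hp, hf, hc⟩, hcard⟩ := hE
  have hzc : (⟨z, hzQ⟩ : Q) ∈ Subgroup.center ↥Q := by
    rw [Subgroup.mem_center_iff]
    intro a
    apply Subtype.ext
    exact hcent a a.2
  -- the centre is {1, z}
  have hcenter : ∀ a ∈ Subgroup.center ↥Q, a = 1 ∨ a = (⟨z, hzQ⟩ : Q) := by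
    intro a ha
    have h2 : Nat.card (Subgroup.center ↥Q) = 2 := hcard
    rw [Nat.card_eq_two_iff' (1 : Subgroup.center ↥Q)] at h2
    obtain ⟨y, hy, hy'⟩ := h2
    by_cases h1 : a = 1
    · exact Or.inl h1
    · right
      have e1 : (⟨a, ha⟩ : Subgroup.center ↥Q) = y := hy' _ (by
        intro h; apply h1; exact congrArg Subtype.val h)
      have e2 : (⟨⟨z, hzQ⟩, hzc⟩ : Subgroup.center ↥Q) = y := hy' _ (by
        intro h; apply hz1
        have := congrArg (fun t : Subgroup.center ↥Q => ((t : Q) : G)) h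
        simpa using this)
      have := e1.trans e2.symm
      exact congrArg Subtype.val this
  have hzz : z * z = 1 := by
    have hmem : (⟨z, hzQ⟩ : Q) * ⟨z, hzQ⟩ ∈ Subgroup.center ↥Q := Subgroup.mul_mem _ hzc hzc
    rcases hcenter _ hmem with h | h
    · exact congrArg Subtype.val h
    · exfalso
      have h' : z * z = z := congrArg Subtype.val h
      exact hz1 (by simpa using h')
  have hcomm' : ∀ a b : Q, a * b * a⁻¹ = b ∨ a * b * a⁻¹ = b * ⟨z, hzQ⟩ := by
    intro a b
    have hm : ⁅a, b⁆ ∈ Subgroup.center ↥Q := by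
      rw [← hc, commutator_def]
      exact Subgroup.commutator_mem_commutator (Subgroup.mem_top _) (Subgroup.mem_top _)
    rw [commutatorElement_def] at hm
    rcases hcenter _ hm with h | h
    · left
      have := mul_inv_eq_one.mp h
      exact this
    · right
      have h5 := mul_inv_eq_iff_eq_mul.mp h
      rw [h5]
      exact ((Subgroup.mem_center_iff.mp hzc) b).symm
  refine ⟨hzQ, hz1, hzz, hcent, ?_, ?_, ?_⟩
  · intro a ha b hb
    rcases hcomm' ⟨a, ha⟩ ⟨b, hb⟩ with h | h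
    · left; exact congrArg Subtype.val h
    · right; exact congrArg Subtype.val h
  · intro a ha ha1 haz
    by_contra hcon
    push Not at hcon
    have hac : (⟨a, ha⟩ : Q) ∈ Subgroup.center ↥Q := by
      rw [Subgroup.mem_center_iff]
      intro b
      rcases hcomm' b ⟨a, ha⟩ with h | h
      · exact mul_inv_eq_iff_eq_mul.mp h
      · exfalso
        exact hcon b b.2 (congrArg Subtype.val h)
    rcases hcenter _ hac with h | h
    · exact ha1 (congrArg Subtype.val h)
    · exact haz (congrArg Subtype.val h)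
  · intro a ha
    have hac : (⟨a, ha⟩ : Q) * ⟨a, ha⟩ ∈ Subgroup.center ↥Q := by
      rw [Subgroup.mem_center_iff]
      intro b
      have hbb : b * (⟨a, ha⟩ * ⟨a, ha⟩) * b⁻¹ = (b * ⟨a, ha⟩ * b⁻¹) * (b * ⟨a, ha⟩ * b⁻¹) := by
        group
      rcases hcomm' b ⟨a, ha⟩ with h | h
      · rw [h] at hbb
        exact mul_inv_eq_iff_eq_mul.mp hbb
      · rw [h] at hbb
        have hza := (Subgroup.mem_center_iff.mp hzc) ⟨a, ha⟩
        have hzz' : (⟨z, hzQ⟩ : Q) * ⟨z, hzQ⟩ = 1 := Subtype.ext hzz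
        have : b * (⟨a, ha⟩ * ⟨a, ha⟩) * b⁻¹ = ⟨a, ha⟩ * ⟨a, ha⟩ := by
          rw [hbb]
          calc (⟨a, ha⟩ : Q) * ⟨z, hzQ⟩ * (⟨a, ha⟩ * ⟨z, hzQ⟩)
              = (⟨a, ha⟩ : Q) * ⟨z, hzQ⟩ * (⟨z, hzQ⟩ * ⟨a, ha⟩) := by rw [hza]
            _ = ⟨a, ha⟩ * (⟨z, hzQ⟩ * ⟨z, hzQ⟩) * ⟨a, ha⟩ := by group
            _ = ⟨a, ha⟩ * ⟨a, ha⟩ := by rw [hzz', mul_one]
        exact mul_inv_eq_iff_eq_mul.mp this
    rcases hcenter _ hac with h | h
    · left; exact congrArg Subtype.val h
    · right; exact congrArg Subtype.val h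

/-! ### The family `Q x = O₂(C_G(x))`. -/

theorem pCore_normal' (p : ℕ) (H : Type*) [Group H] : (Cfsg.pCore p H).Normal :=
  Subgroup.sSup_normal _ fun _ h => h.1

theorem pCore_isPGroup' (p : ℕ) [Fact p.Prime] (H : Type*) [Group H] [Finite H] :
    IsPGroup p (Cfsg.pCore p H) := by
  obtain ⟨P⟩ : Nonempty (Sylow p H) := inferInstance
  apply P.isPGroup'.to_le
  apply sSup_le
  rintro N ⟨hN, hNp⟩
  exact hNp.le_sylow_of_normal P

theorem le_pCore' {p : ℕ} {H : Type*} [Group H] {N : Subgroup H} (hN : N.Normal)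
    (hp : IsPGroup p N) : N ≤ Cfsg.pCore p H := le_sSup ⟨hN, hp⟩

section Family

variable [Finite G] {Q : G → Subgroup G}

theorem Q_le_cent
    (hQ : ∀ x : G, Q x = (Cfsg.pCore 2 ↥(Subgroup.centralizer ({x} : Set G))).map (Subgroup.centralizer ({x} : Set G)).subtype)
    (x : G) : Q x ≤ Subgroup.centralizer ({x} : Set G) := by
  rw [hQ x]
  exact Subgroup.map_subtype_le _

theorem Q_comm
    (hQ : ∀ x : G, Q x = (Cfsg.pCore 2 ↥(Subgroup.centralizer ({x} : Set G))).map (Subgroup.centralizer ({x} : Set G)).subtype)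
    (x a : G) (ha : a ∈ Q x) : a * x = x * a := by
  have := Q_le_cent hQ x ha
  rw [Subgroup.mem_centralizer_iff] at this
  exact (this x rfl).symm

theorem Q_isPGroup
    (hQ : ∀ x : G, Q x = (Cfsg.pCore 2 ↥(Subgroup.centralizer ({x} : Set G))).map (Subgroup.centralizer ({x} : Set G)).subtype)
    (x : G) : IsPGroup 2 (Q x) := by
  rw [hQ x]
  exact (pCore_isPGroup' 2 _).map _

theorem Q_normalized
    (hQ : ∀ x : G, Q x = (Cfsg.pCore 2 ↥(Subgroup.centralizer ({x} : Set G))).map (Subgroup.centralizer ({x} : Set G)).subtype)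
    (x c a : G) (hc : c * x = x * c) (ha : a ∈ Q x) : c * a * c⁻¹ ∈ Q x := by
  rw [hQ x] at ha ⊢
  obtain ⟨b, hb, rfl⟩ := ha
  have hc' : c ∈ Subgroup.centralizer ({x} : Set G) := by
    rw [Subgroup.mem_centralizer_iff]
    intro h hh
    rw [Set.mem_singleton_iff.mp hh]
    exact hc.symm
  refine ⟨⟨c, hc'⟩ * b * ⟨c, hc'⟩⁻¹, ?_, rfl⟩
  exact (pCore_normal' 2 _).conj_mem b hb _

/-- A normal 2-subgroup of the centralizer lies in `Q x`. -/
theorem le_Q_of
    (hQ : ∀ x : G, Q x = (Cfsg.pCore 2 ↥(Subgroup.centralizer ({x} : Set G))).map (Subgroup.centralizer ({x} : Set G)).subtype)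
    (x : G) (N : Subgroup G) (hNp : IsPGroup 2 N) (hNle : ∀ a ∈ N, a * x = x * a)
    (hN : ∀ c : G, c * x = x * c → ∀ a ∈ N, c * a * c⁻¹ ∈ N) : N ≤ Q x := by
  have h1 : N ≤ Subgroup.centralizer ({x} : Set G) := by
    intro a ha
    rw [Subgroup.mem_centralizer_iff]
    intro h hh
    rw [Set.mem_singleton_iff.mp hh]
    exact (hNle a ha).symm
  have h2 : N.subgroupOf (Subgroup.centralizer ({x} : Set G)) ≤
      Cfsg.pCore 2 ↥(Subgroup.centralizer ({x} : Set G)) := by
    apply le_pCore'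
    · refine ⟨?_⟩
      intro a ha c
      rw [Subgroup.mem_subgroupOf] at ha ⊢
      have hc := c.2
      rw [Subgroup.mem_centralizer_iff] at hc
      exact hN c (hc x rfl).symm a ha
    · exact hNp.comap_of_injective _ (Subgroup.subtype_injective _)
  rw [hQ x]
  intro a ha
  exact ⟨⟨a, h1 ha⟩, h2 (by rw [Subgroup.mem_subgroupOf]; exact ha), rfl⟩

theorem self_mem_Q
    (hQ : ∀ x : G, Q x = (Cfsg.pCore 2 ↥(Subgroup.centralizer ({x} : Set G))).map (Subgroup.centralizer ({x} : Set G)).subtype)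
    (x : G) (hx : orderOf x = 2) : x ∈ Q x := by
  have hle : Subgroup.zpowers x ≤ Q x := by
    apply le_Q_of hQ x
    · apply IsPGroup.of_card (n := 1)
      rw [Nat.card_zpowers, hx, pow_one]
    · rintro a ⟨n, rfl⟩
      exact (Commute.refl x).zpow_left n
    · rintro c hc a ⟨n, rfl⟩
      have : c * x ^ n = x ^ n * c := (show Commute c x from hc).zpow_right n
      simp only [this, mul_inv_cancel_right]
      exact ⟨n, rfl⟩
  exact hle (Subgroup.mem_zpowers x)

theorem Q_conj_le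
    (hQ : ∀ x : G, Q x = (Cfsg.pCore 2 ↥(Subgroup.centralizer ({x} : Set G))).map (Subgroup.centralizer ({x} : Set G)).subtype)
    (x g : G) (a : G) (ha : a ∈ Q x) : g * a * g⁻¹ ∈ Q (g * x * g⁻¹) := by
  have hle : (Q x).map (MulAut.conj g).toMonoidHom ≤ Q (g * x * g⁻¹) := by
    apply le_Q_of hQ
    · exact (Q_isPGroup hQ x).map _
    · rintro b ⟨a, ha, rfl⟩
      simp only [MulEquiv.coe_toMonoidHom, MulAut.conj_apply]
      have := Q_comm hQ x a ha
      calc g * a * g⁻¹ * (g * x * g⁻¹) = g * (a * x) * g⁻¹ := by group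
        _ = g * (x * a) * g⁻¹ := by rw [this]
        _ = g * x * g⁻¹ * (g * a * g⁻¹) := by group
    · rintro c hc b ⟨a, ha, rfl⟩
      simp only [MulEquiv.coe_toMonoidHom, MulAut.conj_apply]
      have hc' : (g⁻¹ * c * g) * x = x * (g⁻¹ * c * g) := by
        have h1 : g⁻¹ * (c * (g * x * g⁻¹)) * g = g⁻¹ * (g * x * g⁻¹ * c) * g := by rw [hc]
        calc (g⁻¹ * c * g) * x = g⁻¹ * (c * (g * x * g⁻¹)) * g := by group
          _ = g⁻¹ * (g * x * g⁻¹ * c) * g := h1
          _ = x * (g⁻¹ * c * g) := by group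
      refine ⟨(g⁻¹ * c * g) * a * (g⁻¹ * c * g)⁻¹, Q_normalized hQ x _ a hc' ha, ?_⟩
      simp only [MulEquiv.coe_toMonoidHom, MulAut.conj_apply]
      group
  exact hle ⟨a, ha, rfl⟩

theorem Q_conj_iff
    (hQ : ∀ x : G, Q x = (Cfsg.pCore 2 ↥(Subgroup.centralizer ({x} : Set G))).map (Subgroup.centralizer ({x} : Set G)).subtype)
    (x g : G) (a : G) : a ∈ Q x ↔ g * a * g⁻¹ ∈ Q (g * x * g⁻¹) := by
  refine ⟨Q_conj_le hQ x g a, fun h => ?_⟩
  have := Q_conj_le hQ _ g⁻¹ _ h
  have e1 : g⁻¹ * (g * a * g⁻¹) * g⁻¹⁻¹ = a := by group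
  have e2 : g⁻¹ * (g * x * g⁻¹) * g⁻¹⁻¹ = x := by group
  rwa [e1, e2] at this

theorem XS_z
    (hQ : ∀ x : G, Q x = (Cfsg.pCore 2 ↥(Subgroup.centralizer ({x} : Set G))).map (Subgroup.centralizer ({x} : Set G)).subtype)
    (z : G) (hz : orderOf z = 2) (hE : Cfsg.IsExtraspecial 2 ↥(Q z)) : XS (Q z) z := by
  apply XS.of_isExtraspecial hE (self_mem_Q hQ z hz)
  · rintro rfl; simp at hz
  · exact fun a ha => Q_comm hQ z a ha

theorem XS_conj
    (hQ : ∀ x : G, Q x = (Cfsg.pCore 2 ↥(Subgroup.centralizer ({x} : Set G))).map (Subgroup.centralizer ({x} : Set G)).subtype)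
    (z : G) (hz : orderOf z = 2) (hE : Cfsg.IsExtraspecial 2 ↥(Q z)) (u : G)
    (hu : ∃ g : G, g * z * g⁻¹ = u) : XS (Q u) u := by
  obtain ⟨g, rfl⟩ := hu
  exact (XS_z hQ z hz hE).conj g (fun a => Q_conj_iff hQ z g a)

end Family

end Cfsg.Agent.H864
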