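import Cfsg.Agent.FixBN.TwOfBN
import Cfsg.Agent.FastGrp
import Cfsg.Agent.Prune
set_option linter.all false
prune_inst 0x7f00000000000000000000000000000000000000000000000000000000000000000000000000000000000000000000000000000000000000000000000000000000000000000000000000000000000000003fffffffffffffffffffffffffffbeffbdffffffff
open scoped Cfsg.Agent.FastGrp

/-!
# Automorphisms of a group with a split (B, N)-pair act on the building

`exists_act` : the action of an automorphism of any order (generalizes `FixBN.TwOfBN.exists_tw`).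
-/

set_option autoImplicit false

namespace Cfsg.Agent.H864.TrAct

open Cfsg Cfsg.Agent.LieExceptional.BNPairCore Cfsg.Agent.Tits.Core Cfsg.Agent.Tits.Core.Bldg Cfsg.Agent.Tits.OfBN
  Cfsg.Agent.Schreier.BNSch Cfsg.Agent.Tits.OppRes Cfsg.Agent.FixBN Cfsg.Agent.FixBN.OfBN Cfsg.Agent.FixBN.TwOfBN

variable {K : Type*} [Group K] {P : Cfsg.BNPair K} {p : ℕ} {U : Subgroup K} (S : Split P p U)

include S

/-- **Automorphisms act on the building.** -/
theorem exists_act [Finite K] [Fact p.Prime] [hN : ((P.B ⊓ P.N).subgroupOf P.N).Normal]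
    {I : Type*} {M : CoxeterMatrix I} (e : I ≃ P.S) (cs : CoxeterSystem M (WP P))
    (hcs : ∀ i, cs.simple i = QuotientGroup.mk (⟨(e i : K), P.subset (e i).2⟩ : P.N))
    (τ : K ≃* K) : ∃ (θ : K ⧸ P.B ≃ K ⧸ P.B) (φ : WP P ≃* WP P) (σ : I → I),
      (∀ (g : K) x, θ (g • x) = τ g • θ x) ∧ (∀ i, φ (cs.simple i) = cs.simple (σ i)) ∧
      (∀ a b, (bldg P e cs hcs).δ (θ a) (θ b) = φ ((bldg P e cs hcs).δ a b)) ∧
      ∀ n : ℕ, (∀ g, τ^[n] g = g) → (∀ x, θ^[n] x = x) ∧ ∀ i, σ^[n] i = i := by
  have hI : Finite I := finite_I e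
  have hC : Cox cs := inferInstance
  obtain ⟨g, hg⟩ := exists_conj S τ
  set α : K ≃* K := τ.trans (MulAut.conj g⁻¹) with hαdef
  have hα' : ∀ b, α b = g⁻¹ * τ b * g := by
    intro b
    rw [hαdef]
    simp
  have hα : ∀ b, α b ∈ P.B ↔ b ∈ P.B := fun b => by rw [hα']; exact hg b
  -- the action on chambers
  have hθwd : ∀ a b : K, a⁻¹ * b ∈ P.B ↔ (QuotientGroup.mk (τ a * g) : K ⧸ P.B) = QuotientGroup.mk (τ b * g) := by
    intro a b
    rw [OfBN.mk_eq]
    have h1 : (τ a * g)⁻¹ * (τ b * g) = α (a⁻¹ * b) := by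
      rw [hα', map_mul, map_inv]; group
    rw [h1, hα]
  set θ₀ : K ⧸ P.B → K ⧸ P.B := Quotient.lift (fun a : K => (QuotientGroup.mk (τ a * g) : K ⧸ P.B))
    (fun a b h => (hθwd a b).1 (QuotientGroup.leftRel_apply.1 h)) with hθ₀
  have hθ : ∀ a : K, θ₀ (QuotientGroup.mk a) = QuotientGroup.mk (τ a * g) := fun a => rfl
  have hθinj : Function.Injective θ₀ := by
    intro x y h
    induction x using QuotientGroup.induction_on with
    | _ a =>
    induction y using QuotientGroup.induction_on with
    | _ b =>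
    rw [hθ, hθ] at h
    rw [OfBN.mk_eq]
    exact (hθwd a b).2 h
  have hφinj := fW_injective α hα
  refine ⟨Equiv.ofBijective θ₀ (Finite.injective_iff_bijective.1 hθinj),
    MulEquiv.ofBijective (MonoidHom.mk' (fW P α) (fW_mul α hα e cs hcs)) (Finite.injective_iff_bijective.1 hφinj),
    sigma α hα e cs hcs, ?_, ?_, ?_, ?_⟩
  · intro k x
    induction x using QuotientGroup.induction_on with
    | _ a =>
    show θ₀ (k • QuotientGroup.mk a) = τ k • θ₀ (QuotientGroup.mk a)
    rw [OfBN.smul_mk, hθ, hθ, OfBN.smul_mk, map_mul, mul_assoc]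
  · exact fun i => fW_simple α hα e cs hcs i
  · intro x y
    induction x using QuotientGroup.induction_on with
    | _ a =>
    induction y using QuotientGroup.induction_on with
    | _ b =>
    show (bldg P e cs hcs).δ (θ₀ (QuotientGroup.mk a)) (θ₀ (QuotientGroup.mk b)) = fW P α _
    rw [hθ, hθ, bldg_δ_mk, bldg_δ_mk, fW_wt α hα]
    congr 1
    rw [hα', map_mul, map_inv]; group
  · intro n hn
    -- `h_n`
    have key : ∀ n : ℕ, ∃ h : K, (∀ a : K, θ₀^[n] (QuotientGroup.mk a) = QuotientGroup.mk (τ^[n] a * h)) ∧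
        ∀ b, α^[n] b = h⁻¹ * τ^[n] b * h := by
      intro n
      induction n with
      | zero => exact ⟨1, fun a => by simp, fun b => by simp⟩
      | succ n ih =>
        obtain ⟨h, h1, h2⟩ := ih
        refine ⟨τ h * g, fun a => ?_, fun b => ?_⟩
        · rw [Function.iterate_succ_apply', h1, hθ, Function.iterate_succ_apply', map_mul, mul_assoc]
        · rw [Function.iterate_succ_apply', h2, hα', Function.iterate_succ_apply', map_mul, map_mul, map_inv]
          group
    obtain ⟨h, h1, h2⟩ := key n
    have hαB : ∀ (m : ℕ) (b : K), α^[m] b ∈ P.B ↔ b ∈ P.B := by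
      intro m
      induction m with
      | zero => exact fun b => Iff.rfl
      | succ m ih => intro b; rw [Function.iterate_succ_apply', hα, ih]
    have hhB : h ∈ P.B := by
      apply mem_of_conj S
      intro b hb
      have h3 := h2 b
      rw [hn] at h3
      rw [← h3, hαB]
      exact hb
    refine ⟨?_, ?_⟩
    · intro x
      induction x using QuotientGroup.induction_on with
      | _ a =>
      change θ₀^[n] (QuotientGroup.mk a) = QuotientGroup.mk a
      rw [h1, hn, OfBN.mk_eq]
      have h3 : (a * h)⁻¹ * a = h⁻¹ := by group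
      rw [h3]
      exact inv_mem hhB
    · intro i
      apply hC.inj
      have h3 : ∀ (m : ℕ) (j : I), cs.simple ((sigma α hα e cs hcs)^[m] j) = (fW P α)^[m] (cs.simple j) := by
        intro m
        induction m with
        | zero => exact fun j => rfl
        | succ m ih => intro j; rw [Function.iterate_succ_apply', Function.iterate_succ_apply', ← fW_simple α hα e cs hcs, ih]
      have h4 : ∀ (m : ℕ) (x : K), (fW P α)^[m] (wt P x) = wt P (α^[m] x) := by
        intro m
        induction m with
        | zero => exact fun x => rfl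
        | succ m ih => intro x; rw [Function.iterate_succ_apply', Function.iterate_succ_apply', ih, fW_wt α hα]
      rw [h3]
      obtain ⟨y, hy⟩ := exists_wt (cs.simple i)
      rw [← hy, h4, h2, hn, wt_mul_right P _ hhB, wt_mul_left P _ (inv_mem hhB)]

end Cfsg.Agent.H864.TrAct
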