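import Mathlib
import Cfsg.Agent.CpAut.Psl
import Cfsg.Agent.LieRecognition.FieldSemilinear
import Cfsg.Agent.Lib.NormalAbelian
import Cfsg.Agent.H523.FpfCyc
import Cfsg.Agent.FastGrp
import Cfsg.Agent.Prune
set_option linter.all false
prune_inst 0x7ffebdfdabb989dfffff7fffa6dfeffdfebdbfffa4dffdfbffe061ffabdf6b0ac9e56b8deffa1afe0ff7423454ec7b43fdfffeffea6bfc7ffffd5ff45ffb7fdfe5ffbd0851d6ac340fb46ffff3f0778e7f3fffffffffffffffffffffffffffbeffbfffffffff
open scoped Cfsg.Agent.FastGrp

-- part: H864/CyclicVec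
section
/-!
# Cyclic vectors of semisimple endomorphisms

`exists_cyclic` : a semisimple endomorphism `f` of a finite-dimensional space which commutes with no `N ≠ 0`, `N ^ 2 = 0`,
has a cyclic vector.
-/

set_option autoImplicit false

namespace Cfsg.Agent.H864.CyclicVec

variable {F V : Type*} [Field F] [AddCommGroup V] [Module F V]

/-- The invariant subspace generated by `v`. -/
def Z (f : Module.End F V) (v : V) : Submodule F V := Submodule.span F (Set.range fun i : ℕ => (f ^ i) v)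

theorem mem_Z (f : Module.End F V) (v : V) : v ∈ Z f v := Submodule.subset_span ⟨0, rfl⟩

theorem map_mem_Z {f : Module.End F V} {v w : V} (hw : w ∈ Z f v) : f w ∈ Z f v := by
  induction hw using Submodule.span_induction with
  | mem x hx =>
    obtain ⟨i, rfl⟩ := hx
    refine Submodule.subset_span ⟨i + 1, ?_⟩
    change (f ^ (i + 1)) v = f ((f ^ i) v)
    rw [pow_succ']
    rfl
  | zero => rw [map_zero]; exact Submodule.zero_mem _
  | add x y _ _ hx hy => rw [map_add]; exact Submodule.add_mem _ hx hy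
  | smul a x _ hx => rw [map_smul]; exact Submodule.smul_mem _ _ hx

theorem Z_le {f : Module.End F V} {v : V} {W : Submodule F V} (hv : v ∈ W) (hW : ∀ w ∈ W, f w ∈ W) : Z f v ≤ W := by
  refine Submodule.span_le.2 ?_
  rintro _ ⟨i, rfl⟩
  change (f ^ i) v ∈ W
  induction i with
  | zero => exact hv
  | succ i ih => rw [pow_succ']; exact hW _ ih

theorem map_Z {f g : Module.End F V} (h : g * f = f * g) (v : V) : (Z f v).map g = Z f (g v) := by
  unfold Z
  rw [Submodule.map_span, ← Set.range_comp]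
  congr 2
  funext i
  change g ((f ^ i) v) = (f ^ i) (g v)
  have h1 : g * f ^ i = f ^ i * g := (Commute.pow_right (show Commute g f from h) i)
  exact congrArg (fun e : Module.End F V => e v) h1

theorem exists_cyclic [FiniteDimensional F V] (f : Module.End F V) (hss : f.IsSemisimple)
    (hN : ∀ N : Module.End F V, N * N = 0 → N * f = f * N → N = 0) :
    ∃ v : V, Z f v = ⊤ := by
  classical
  -- a cyclic subspace of maximal dimension
  obtain ⟨v, hv⟩ : ∃ v : V, ∀ w : V, Module.finrank F (Z f w) ≤ Module.finrank F (Z f v) := by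
    have hb : BddAbove (Set.range fun w : V => Module.finrank F (Z f w)) :=
      ⟨Module.finrank F V, by rintro _ ⟨w, rfl⟩; exact Submodule.finrank_le _⟩
    obtain ⟨v, hv⟩ := Nat.sSup_mem (Set.range_nonempty (fun w : V => Module.finrank F (Z f w))) hb
    refine ⟨v, fun w => ?_⟩
    change _ ≤ (fun w : V => Module.finrank F (Z f w)) v
    rw [hv]
    exact le_csSup hb ⟨w, rfl⟩
  refine ⟨v, ?_⟩
  by_contra htop
  obtain ⟨W', hW', hc⟩ := (Module.End.isSemisimple_iff.1 hss) (Z f v) (fun w hw => map_mem_Z hw)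
  have hW'ne : W' ≠ ⊥ := by
    rintro rfl
    apply htop
    have := hc.codisjoint
    rwa [codisjoint_bot] at this
  obtain ⟨w, hw, hw0⟩ := Submodule.exists_mem_ne_zero_of_ne_bot hW'ne
  -- the projection onto `Z f v` along `W'`
  let π : Module.End F V := (Z f v).subtype ∘ₗ Submodule.projectionOnto (Z f v) W' hc
  have hπ1 : ∀ x ∈ Z f v, π x = x := by
    intro x hx
    change ((Submodule.projectionOnto (Z f v) W' hc x : Z f v) : V) = x
    rw [Submodule.projectionOnto_apply_left hc ⟨x, hx⟩]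
  have hπ2 : ∀ x ∈ W', π x = 0 := by
    intro x hx
    change ((Submodule.projectionOnto (Z f v) W' hc x : Z f v) : V) = 0
    rw [Submodule.projectionOnto_apply_right hc ⟨x, hx⟩]
    rfl
  have hπmem : ∀ x, π x ∈ Z f v := fun x => (Submodule.projectionOnto (Z f v) W' hc x).2
  have hdec : ∀ x : V, ∃ a ∈ Z f v, ∃ b ∈ W', x = a + b := by
    intro x
    have h1 : x ∈ Z f v ⊔ W' := by rw [hc.sup_eq_top]; trivial
    obtain ⟨a, ha, b, hb, rfl⟩ := Submodule.mem_sup.1 h1
    exact ⟨a, ha, b, hb, rfl⟩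
  have hπf : π * f = f * π := by
    ext x
    obtain ⟨a, ha, b, hb, rfl⟩ := hdec x
    change π (f (a + b)) = f (π (a + b))
    rw [map_add, map_add, hπ1 _ (map_mem_Z ha), hπ2 _ (hW' hb), map_add, hπ1 a ha, hπ2 b hb, add_zero, add_zero]
  have hcompl : ∀ x, x - π x ∈ W' := by
    intro x
    obtain ⟨a, ha, b, hb, rfl⟩ := hdec x
    rw [map_add, hπ1 a ha, hπ2 b hb, add_zero, add_sub_cancel_left]
    exact hb
  -- the restriction of `π` to `Z f (v + w)` is bijective onto `Z f v`
  have hmap : (Z f (v + w)).map π = Z f v := by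
    rw [map_Z hπf, map_add, hπ1 v (mem_Z f v), hπ2 w hw, add_zero]
  let πr : Z f (v + w) →ₗ[F] Z f v := π.restrict (p := Z f (v + w)) (q := Z f v) (fun x _ => hπmem x)
  have hsurj : Function.Surjective πr := by
    rintro ⟨y, hy⟩
    rw [← hmap] at hy
    obtain ⟨x, hx, rfl⟩ := hy
    exact ⟨⟨x, hx⟩, rfl⟩
  have hinj : Function.Injective πr := by
    have h1 : Module.finrank F (Z f (v + w)) = Module.finrank F (Z f v) :=
      le_antisymm (hv _) (LinearMap.finrank_le_finrank_of_surjective hsurj)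
    exact (LinearMap.injective_iff_surjective_of_finrank_eq_finrank h1).2 hsurj
  let e := LinearEquiv.ofBijective πr ⟨hinj, hsurj⟩
  -- `θ` : the section `Z f v → Z f (v + w)`
  let θ : V →ₗ[F] V := (Z f (v + w)).subtype ∘ₗ e.symm.toLinearMap ∘ₗ Submodule.projectionOnto (Z f v) W' hc
  have hθ : ∀ x, θ x ∈ Z f (v + w) ∧ π (θ x) = π x := by
    intro x
    refine ⟨(e.symm _).2, ?_⟩
    have h1 : πr (e.symm (Submodule.projectionOnto (Z f v) W' hc x)) =
        Submodule.projectionOnto (Z f v) W' hc x := e.apply_symm_apply _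
    exact congrArg Subtype.val h1
  have huniq : ∀ x ∈ Z f (v + w), ∀ y ∈ Z f (v + w), π x = π y → x = y := by
    intro x hx y hy hxy
    have h1 : (⟨x, hx⟩ : Z f (v + w)) = ⟨y, hy⟩ := hinj (Subtype.ext hxy)
    exact congrArg Subtype.val h1
  have hθf : ∀ x, θ (f x) = f (θ x) := by
    intro x
    apply huniq _ (hθ _).1 _ (map_mem_Z (hθ x).1)
    rw [(hθ _).2]
    have h1 : π (f x) = f (π x) := congrArg (fun e : Module.End F V => e x) hπf
    have h2 : π (f (θ x)) = f (π (θ x)) := congrArg (fun e : Module.End F V => e (θ x)) hπf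
    rw [h1, h2, (hθ x).2]
  have hθπ : ∀ x, π x = 0 → θ x = 0 := by
    intro x hx
    apply huniq _ (hθ _).1 _ (Submodule.zero_mem _)
    rw [(hθ x).2, hx, map_zero]
  let N : Module.End F V := θ - π * θ
  have hNap : ∀ x, N x = θ x - π (θ x) := fun x => rfl
  have hNmem : ∀ x, N x ∈ W' := fun x => hcompl (θ x)
  have h0 := hN N (by
    ext x
    change N (N x) = 0
    rw [hNap (N x), hθπ (N x) (hπ2 _ (hNmem x)), map_zero, sub_zero]) (by
    ext x
    change N (f x) = f (N x)
    rw [hNap, hNap, hθf, map_sub]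
    congr 1
    exact congrArg (fun e : Module.End F V => e (θ x)) hπf)
  have h1 : N v = w := by
    have h2 : θ v = v + w := by
      apply huniq _ (hθ _).1 _ (mem_Z f _)
      rw [(hθ v).2, map_add, hπ2 w hw, add_zero]
    rw [hNap, h2, map_add, hπ1 v (mem_Z f v), hπ2 w hw, add_zero, add_sub_cancel_left]
  rw [h0] at h1
  exact hw0 h1.symm

end Cfsg.Agent.H864.CyclicVec
end

-- part: H864/Twist
section
/-!
# Matrices with scalar `r`-th power

* `pow_eq_of_fixed` : a field automorphism fixing the class of an element of order `r` modulo `n`-th powers fixes the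
  `r`-th roots of unity;
* `exists_basis` : `f ^ r = l`, `f` with a cyclic vector, `r` divides the dimension: the `f ^ i v`, `i < r`, are a basis;
* `exists_twist` : then `D f = w f D` for some `D` of determinant one, `r` odd, `w ^ r = 1`.
-/

set_option autoImplicit false

namespace Cfsg.Agent.H864.Twist

open Cfsg.Agent.H864.CyclicVec

section Units

variable {F : Type*} [Field F] [Finite F]

/-- `δ` is not an `n`-th power, `δ ^ r` is, and `σ δ = δ` modulo `n`-th powers: `σ` fixes the `r`-th roots of unity. -/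
theorem pow_eq_of_fixed (σ : Fˣ →* Fˣ) {n r : ℕ} (hr : r.Prime) {δ μ ν w : Fˣ} (h1 : ∀ c : Fˣ, δ ≠ c ^ n)
    (h2 : δ ^ r = μ ^ n) (h3 : σ δ = ν ^ n * δ) (hw : w ^ r = 1) : σ w = w := by
  obtain ⟨m, hm⟩ := MonoidHom.map_cyclic σ
  have h4 : δ ^ (m - 1) = ν ^ n := by
    rw [zpow_sub_one, ← hm, h3, mul_inv_cancel_right]
  have hdvd : (r : ℤ) ∣ m - 1 := by
    by_contra hnd
    have hcop : IsCoprime (r : ℤ) (m - 1) := (Nat.prime_iff_prime_int.1 hr).coprime_iff_not_dvd.2 hnd
    obtain ⟨a, b, hab⟩ := hcop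
    apply h1 (μ ^ a * ν ^ b)
    have h5 : δ = (δ ^ (r : ℤ)) ^ a * (δ ^ (m - 1)) ^ b := by
      rw [← zpow_mul, ← zpow_mul, ← zpow_add, mul_comm (r : ℤ) a, mul_comm (m - 1) b, hab, zpow_one]
    conv_lhs => rw [h5]
    rw [zpow_natCast, h2, h4, mul_pow, ← zpow_natCast μ n, ← zpow_natCast ν n, ← zpow_mul, ← zpow_mul,
      ← zpow_natCast (μ ^ a) n, ← zpow_natCast (ν ^ b) n, ← zpow_mul, ← zpow_mul, mul_comm (n : ℤ) a,
      mul_comm (n : ℤ) b]
  obtain ⟨k, hk⟩ := hdvd
  have h6 : w ^ (m - 1) = 1 := by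
    rw [hk, zpow_mul, zpow_natCast, hw, one_zpow]
  rw [hm, show m = m - 1 + 1 by ring, zpow_add_one, h6, one_mul]

/-- `δ` not an `n`-th power, `δ ^ r` an `n`-th power, `r` prime: `r` divides `n`. -/
theorem dvd_of_not_pow {n r : ℕ} (hr : r.Prime) {δ μ : Fˣ} (h1 : ∀ c : Fˣ, δ ≠ c ^ n)
    (h2 : δ ^ r = μ ^ n) : r ∣ n := by
  by_contra hnd
  have hcop : IsCoprime (r : ℤ) (n : ℤ) := by
    rw [Nat.isCoprime_iff_coprime]
    exact (Nat.Prime.coprime_iff_not_dvd hr).2 hnd
  obtain ⟨a, b, hab⟩ := hcop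
  apply h1 (μ ^ a * δ ^ b)
  have h5 : δ = (δ ^ (r : ℤ)) ^ a * (δ ^ b) ^ (n : ℤ) := by
    rw [← zpow_mul, ← zpow_mul, ← zpow_add, mul_comm (r : ℤ) a, hab, zpow_one]
  conv_lhs => rw [h5]
  rw [zpow_natCast, h2, mul_pow, zpow_natCast, ← zpow_natCast μ n, ← zpow_natCast (μ ^ a) n, ← zpow_mul, ← zpow_mul,
    mul_comm (n : ℤ) a]

/-- `δ` not an `n`-th power, `δ ^ r = l ^ n`, `r` a prime dividing `n`: there is an element of order `r`. -/
theorem exists_root {n r : ℕ} (hr : r.Prime) (hrn : r ∣ n) {δ l : Fˣ} (h1 : ∀ c : Fˣ, δ ≠ c ^ n)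
    (h2 : δ ^ r = l ^ n) : ∃ w : Fˣ, orderOf w = r := by
  have : Fact r.Prime := ⟨hr⟩
  by_contra hno
  have hnd : ¬ r ∣ Nat.card Fˣ := by
    intro hd
    exact hno (exists_prime_orderOf_dvd_card' r hd)
  have hcop : (Nat.card Fˣ).Coprime r := ((Nat.Prime.coprime_iff_not_dvd hr).2 hnd).symm
  have hbij : Function.Bijective fun x : Fˣ => x ^ r := (powCoprime hcop).bijective
  obtain ⟨m, rfl⟩ := hrn
  obtain ⟨μ, hμ⟩ := hbij.2 l
  apply h1 μ
  apply hbij.1
  change δ ^ r = (μ ^ (r * m)) ^ r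
  have hμ' : μ ^ r = l := hμ
  rw [h2, ← hμ', ← pow_mul, ← pow_mul, mul_comm r]

end Units

section Lin

variable {F V : Type*} [Field F] [AddCommGroup V] [Module F V] [FiniteDimensional F V]

theorem span_eq_top {f : Module.End F V} {v : V} (hv : Z f v = ⊤) {r : ℕ} {l : F} (hf : ∀ x, (f ^ r) x = l • x) (hr : 0 < r) :
    Submodule.span F (Set.range fun i : Fin r => (f ^ (i : ℕ)) v) = ⊤ := by
  rw [eq_top_iff, ← hv]
  refine Z_le (Submodule.subset_span ⟨⟨0, hr⟩, rfl⟩) ?_
  intro w hw
  induction hw using Submodule.span_induction with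
  | mem x hx =>
    obtain ⟨i, rfl⟩ := hx
    have h1 : f ((f ^ (i : ℕ)) v) = (f ^ ((i : ℕ) + 1)) v := by rw [pow_succ']; rfl
    change f ((f ^ (i : ℕ)) v) ∈ _
    rw [h1]
    rcases Nat.lt_or_ge ((i : ℕ) + 1) r with h2 | h2
    · exact Submodule.subset_span ⟨⟨(i : ℕ) + 1, h2⟩, rfl⟩
    · have h3 : (i : ℕ) + 1 = r := le_antisymm i.2 h2
      rw [h3, hf]
      exact Submodule.smul_mem _ _ (Submodule.subset_span ⟨⟨0, hr⟩, rfl⟩)
  | zero => rw [map_zero]; exact Submodule.zero_mem _
  | add x y _ _ hx hy => rw [map_add]; exact Submodule.add_mem _ hx hy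
  | smul a x _ hx => rw [map_smul]; exact Submodule.smul_mem _ _ hx

theorem finrank_le {f : Module.End F V} {v : V} (hv : Z f v = ⊤) {r : ℕ} {l : F} (hf : ∀ x, (f ^ r) x = l • x) (hr : 0 < r) :
    Module.finrank F V ≤ r := by
  have h1 := finrank_range_le_card (R := F) (fun i : Fin r => (f ^ (i : ℕ)) v)
  rw [Set.finrank, span_eq_top hv hf hr, finrank_top, Fintype.card_fin] at h1
  exact h1

theorem exists_basis {f : Module.End F V} {v : V} (hv : Z f v = ⊤) {r : ℕ} {l : F} (hf : ∀ x, (f ^ r) x = l • x) (hr : 0 < r)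
    (hdim : Module.finrank F V = r) : ∃ b : Module.Basis (Fin r) F V, ∀ i, b i = (f ^ (i : ℕ)) v := by
  refine ⟨basisOfTopLeSpanOfCardEqFinrank (fun i : Fin r => (f ^ (i : ℕ)) v) (span_eq_top hv hf hr).ge ?_, ?_⟩
  · rw [Fintype.card_fin, hdim]
  · intro i
    rw [coe_basisOfTopLeSpanOfCardEqFinrank]

theorem exists_twist {f : Module.End F V} {v : V} (hv : Z f v = ⊤) {r : ℕ} {l : F} (hf : ∀ x, (f ^ r) x = l • x)
    (hr : Odd r) (hdim : Module.finrank F V = r) {w : F} (hw : w ^ r = 1) :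
    ∃ D : Module.End F V, LinearMap.det D = 1 ∧ D * f = w • (f * D) := by
  obtain ⟨b, hb⟩ := exists_basis hv hf hr.pos hdim
  let D : Module.End F V := b.constr F (fun i => w ^ (i : ℕ) • b i)
  have hD : ∀ i, D (b i) = w ^ (i : ℕ) • b i := fun i => b.constr_basis F _ i
  have hD' : ∀ i : ℕ, i ≤ r → D ((f ^ i) v) = w ^ i • (f ^ i) v := by
    intro i hi
    rcases hi.lt_or_eq with h1 | h1
    · have := hD ⟨i, h1⟩
      rwa [hb] at this
    · subst h1
      have h2 := hD ⟨0, hr.pos⟩
      rw [hb] at h2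
      rw [hf, map_smul, hw, one_smul]
      congr 1
      simpa using h2
  refine ⟨D, ?_, ?_⟩
  · have h1 : LinearMap.toMatrix b b D = Matrix.diagonal fun i : Fin r => w ^ (i : ℕ) := by
      ext i j
      rw [LinearMap.toMatrix_apply, hD, map_smul, b.repr_self, Finsupp.smul_apply, Matrix.diagonal_apply,
        Finsupp.single_apply]
      by_cases hij : i = j
      · subst hij; simp
      · rw [if_neg (Ne.symm hij), if_neg hij, smul_zero]
    rw [← LinearMap.det_toMatrix b, h1, Matrix.det_diagonal, Finset.prod_pow_eq_pow_sum]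
    obtain ⟨k, hk⟩ := hr
    have h2 : ∑ i : Fin r, (i : ℕ) = r * k := by
      rw [Fin.sum_univ_eq_sum_range (fun i => i) r, Finset.sum_range_id, hk]
      have h3 : (2 * k + 1) * (2 * k + 1 - 1) = (2 * k + 1) * k * 2 := by
        rw [Nat.add_sub_cancel]; ring
      rw [h3, Nat.mul_div_cancel _ two_pos]
    rw [h2, pow_mul, hw, one_pow]
  · apply b.ext
    intro i
    change D (f (b i)) = w • f (D (b i))
    rw [hD, map_smul, hb]
    have h1 : f ((f ^ (i : ℕ)) v) = (f ^ ((i : ℕ) + 1)) v := by rw [pow_succ']; rfl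
    rw [h1, hD' _ i.2, smul_smul, pow_succ']

end Lin

end Cfsg.Agent.H864.Twist
end

-- part: H864/FpfPSL
section
/-!
# Nilpotent groups of automorphisms of `PSL_n(F)` without fixed points

`psl` : `A` a nilpotent group of automorphisms of odd order of `PSL_n(F)`, `n ≥ 2`, not cyclic, without inner automorphisms,
fixing only the identity, all proper `A`-invariant subgroups solvable: some non-identity central element of `A` fixes an
element of order `p`, the characteristic.
-/

set_option autoImplicit false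
set_option linter.unusedSectionVars false

namespace Cfsg.Agent.H864.FpfPSL

open Matrix Cfsg
open Cfsg.Agent.ClassicalGeometry.AutPSL.Root
open Cfsg.Agent.ClassicalGeometry.AutPSL.Auto
open Cfsg.Agent.ClassicalGeometry.AutPSL.Main
open Cfsg.Agent.CpAut.Psl
open Cfsg.Agent.H864.CyclicVec Cfsg.Agent.H864.Twist

section Abs

/-- A homomorphism with kernel of order two from a noncyclic group to a cyclic one: there is a central involution outside of
the kernel. -/
theorem exists_involution {A C : Type*} [Group A] [Finite A] [Group C] [IsCyclic C] (hcyc : ¬ IsCyclic A) (s : A →* C)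
    (t : A) (ht : s t = 1) (ht1 : t ≠ 1) (hker : ∀ x : A, s x = 1 → x = 1 ∨ x = t) :
    ∃ a : A, a ^ 2 = 1 ∧ s a ≠ 1 ∧ ∀ b : A, a * b = b * a := by
  have htt : t ^ 2 = 1 := by
    rcases hker (t ^ 2) (by rw [map_pow, ht, one_pow]) with h | h
    · exact h
    · rw [pow_two, mul_eq_left] at h
      exact absurd h ht1
  have htc : ∀ b : A, b * t = t * b := by
    intro b
    rcases hker (b * t * b⁻¹) (by rw [map_mul, map_mul, ht, mul_one, map_inv, mul_inv_cancel]) with h | h
    · rw [mul_inv_eq_one, mul_eq_left] at h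
      exact absurd h ht1
    · exact mul_inv_eq_iff_eq_mul.1 h
  obtain ⟨⟨_, x, rfl⟩, hx⟩ := IsCyclic.exists_generator (α := s.range)
  have hgen : ∀ x' : A, s x' = s x → ∀ y : A, ∃ k : ℤ, y = x' ^ k ∨ y = x' ^ k * t := by
    intro x' hx' y
    obtain ⟨k, hk⟩ := Subgroup.mem_zpowers_iff.1 (hx ⟨s y, y, rfl⟩)
    have h1 : s x ^ k = s y := congrArg Subtype.val hk
    refine ⟨k, ?_⟩
    rcases hker ((x' ^ k)⁻¹ * y) (by rw [map_mul, map_inv, map_zpow, hx', h1, inv_mul_cancel]) with h | h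
    · left; exact (inv_mul_eq_one.1 h).symm
    · right; exact inv_mul_eq_iff_eq_mul.1 h
  have hnt : ∀ x' : A, s x' = s x → x' ^ orderOf (s x) ≠ t := by
    intro x' hx' h
    apply hcyc
    refine ⟨x', fun y => ?_⟩
    obtain ⟨k, hk | hk⟩ := hgen x' hx' y
    · exact Subgroup.mem_zpowers_iff.2 ⟨k, hk.symm⟩
    · refine Subgroup.mem_zpowers_iff.2 ⟨k + orderOf (s x), ?_⟩
      rw [hk, _root_.zpow_add, _root_.zpow_natCast, h]
  have hone : ∀ x' : A, s x' = s x → x' ^ orderOf (s x) = 1 := by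
    intro x' hx'
    rcases hker (x' ^ orderOf (s x)) (by rw [map_pow, hx', pow_orderOf_eq_one]) with h | h
    · exact h
    · exact absurd h (hnt x' hx')
  obtain ⟨k, hk⟩ : Even (orderOf (s x)) := by
    by_contra hodd
    rw [Nat.not_even_iff_odd] at hodd
    obtain ⟨k, hk⟩ := hodd
    have h1 := hone (x * t) (by rw [map_mul, ht, mul_one])
    rw [(show Commute x t from htc x).mul_pow, hone x rfl, one_mul, hk, pow_succ, pow_mul, htt, one_pow, one_mul] at h1
    exact ht1 h1
  have hpos : 0 < orderOf (s x) := by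
    have : Finite s.range := Finite.of_surjective _ s.rangeRestrict_surjective
    have h1 : orderOf (⟨s x, x, rfl⟩ : s.range) = orderOf (s x) := Subgroup.orderOf_mk _ _
    rw [← h1]
    exact orderOf_pos _
  refine ⟨x ^ k, ?_, ?_, ?_⟩
  · rw [← pow_mul, mul_two, ← hk, hone x rfl]
  · rw [map_pow]
    exact pow_ne_one_of_lt_orderOf (by omega) (by omega)
  · intro b
    have hxb : Commute x b := by
      obtain ⟨m, hm | hm⟩ := hgen x rfl b
      · rw [hm]; exact (Commute.refl x).zpow_right m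
      · rw [hm]; exact ((Commute.refl x).zpow_right m).mul_right (htc x)
    exact hxb.pow_left k

variable {G : Type*} [Group G]

/-- `y g = z g y` -/
def Tw (g z y : G) : Prop := y * g = z * (g * y)

theorem Tw.inv_mul {g z d e : G} (hd : Tw g z d) (he : Tw g z e) : Tw g 1 (d⁻¹ * e) := by
  unfold Tw at *
  have h1 : d⁻¹ * (z * g) = g * d⁻¹ := by
    rw [inv_mul_eq_iff_eq_mul, ← mul_assoc, eq_mul_inv_iff_mul_eq, mul_assoc z, hd]
  rw [one_mul, mul_assoc, he, ← mul_assoc z, ← mul_assoc d⁻¹, h1, mul_assoc]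

theorem Tw.conj {g z y x : G} (hz : ∀ x : G, z * x = x * z) (hy : Tw g z y) (hx : Tw g 1 x) : Tw g 1 (y * x * y⁻¹) := by
  unfold Tw at *
  rw [one_mul] at *
  have h1 : y⁻¹ * g = z⁻¹ * (g * y⁻¹) := by
    rw [eq_inv_mul_iff_mul_eq, ← mul_assoc, hz, mul_assoc, inv_mul_eq_iff_eq_mul, ← mul_assoc, eq_mul_inv_iff_mul_eq,
      mul_assoc, ← hy]
  have hz' : ∀ x : G, z⁻¹ * x = x * z⁻¹ := by
    intro x
    rw [inv_mul_eq_iff_eq_mul, ← mul_assoc, eq_mul_inv_iff_mul_eq, hz]
  calc y * x * y⁻¹ * g = y * x * (y⁻¹ * g) := by rw [mul_assoc]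
    _ = y * (x * (z⁻¹ * (g * y⁻¹))) := by rw [h1, mul_assoc]
    _ = z⁻¹ * (y * (x * g) * y⁻¹) := by
      rw [← mul_assoc x, ← hz', mul_assoc z⁻¹, ← mul_assoc y, ← hz', mul_assoc z⁻¹, ← mul_assoc x g, mul_assoc y]
    _ = z⁻¹ * ((y * g) * x * y⁻¹) := by rw [hx]; simp only [mul_assoc]
    _ = g * (y * x * y⁻¹) := by
      rw [hy]
      simp only [mul_assoc, inv_mul_cancel_left]

/-- Transport by `h φ(·) h⁻¹`, `h φ(g) = c g h`. -/
theorem Tw.map {g z y h c : G} (φ : G →* G) (hc : ∀ x : G, c * x = x * c) (hφz : ∀ x : G, φ z * x = x * φ z)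
    (hg : h * φ g = c * (g * h)) (hy : Tw g z y) : Tw g (φ z) (h * φ y * h⁻¹) := by
  unfold Tw at *
  have h1 := congrArg φ hy
  rw [map_mul, map_mul, map_mul] at h1
  have h2 : φ g = c * (h⁻¹ * (g * h)) := by
    rw [← mul_assoc, hc, mul_assoc, eq_inv_mul_iff_mul_eq, hg]
  rw [h2] at h1
  have h3 : φ y * (h⁻¹ * (g * h)) = φ z * (h⁻¹ * (g * h) * φ y) := by
    apply mul_left_cancel (a := c)
    calc c * (φ y * (h⁻¹ * (g * h))) = φ y * (c * (h⁻¹ * (g * h))) := by rw [← mul_assoc, hc, mul_assoc]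
      _ = φ z * (c * (h⁻¹ * (g * h)) * φ y) := h1
      _ = c * (φ z * (h⁻¹ * (g * h) * φ y)) := by
        rw [mul_assoc c, ← mul_assoc (φ z), ← hc, mul_assoc c]
  calc h * φ y * h⁻¹ * g = h * (φ y * (h⁻¹ * (g * h))) * h⁻¹ := by group
    _ = h * (φ z * (h⁻¹ * (g * h) * φ y)) * h⁻¹ := by rw [h3]
    _ = φ z * (h * (h⁻¹ * (g * h) * φ y) * h⁻¹) := by rw [← mul_assoc h, ← hφz, mul_assoc (φ z), mul_assoc (φ z)]
    _ = φ z * (g * (h * φ y * h⁻¹)) := by group

end Abs

section Lin

variable {ι F : Type*} [Fintype ι] [DecidableEq ι] [Field F]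

theorem scg_comm (c : Fˣ) (x : GL ι F) : scg c * x = x * scg c := by
  apply Units.ext
  exact (scalar_commute (n := ι) (c : F) (Commute.all _) (x : Matrix ι ι F))

theorem scg_mul (c d : Fˣ) : scg (ι := ι) (c * d) = scg c * scg d := by
  apply Units.ext
  change scalar ι ((c * d : Fˣ) : F) = scalar ι (c : F) * scalar ι (d : F)
  rw [← map_mul, Units.val_mul]

theorem scg_one : scg (ι := ι) (1 : Fˣ) = 1 := by
  apply Units.ext
  change scalar ι ((1 : Fˣ) : F) = 1
  rw [Units.val_one, map_one]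

theorem fgl_scg (σ : F ≃+* F) (c : Fˣ) : fgl σ (scg (ι := ι) c) = scg (Units.map (σ : F →* F) c) := by
  apply Units.ext
  rw [coe_fgl]
  change (scalar ι (c : F)).map σ = scalar ι (σ (c : F))
  ext i j
  rw [Matrix.map_apply, scalar_apply, scalar_apply, diagonal_apply, diagonal_apply]
  split_ifs
  · rfl
  · exact map_zero σ

theorem det_scg (c : Fˣ) : Matrix.GeneralLinearGroup.det (scg (ι := ι) c) = c ^ Fintype.card ι := by
  apply Units.ext
  change (scalar ι (c : F)).det = ((c ^ Fintype.card ι : Fˣ) : F)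
  rw [scalar_apply, det_diagonal, Finset.prod_const, Finset.card_univ, Units.val_pow_eq_pow_val]

theorem det_fgl (σ : F ≃+* F) (g : GL ι F) :
    Matrix.GeneralLinearGroup.det (fgl σ g) = Units.map (σ : F →* F) (Matrix.GeneralLinearGroup.det g) := by
  apply Units.ext
  change ((g : Matrix ι ι F).map σ).det = σ (g : Matrix ι ι F).det
  exact ((σ : F →+* F).map_det (g : Matrix ι ι F)).symm

/-- Uniqueness of the representation of an automorphism. -/
theorem uniq [Nontrivial ι] {g h : GL ι F} {σ τ : F ≃+* F} (e : lift (cj g * fld σ) = lift (cj h * fld τ)) :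
    (∃ c : Fˣ, g = scg c * h) ∧ σ = τ := by
  have h1 : lift (cj (h⁻¹ * g) * fld σ) = lift (fld τ) := by
    rw [map_mul cj, map_inv, mul_assoc, map_mul, e, ← map_mul, ← mul_assoc, inv_mul_cancel, one_mul]
  obtain ⟨⟨c, hc⟩, h2⟩ := injective_aux h1
  have hne : Nonempty ι := inferInstance
  refine ⟨⟨Units.mk0 c (scalar_ne_zero hc), ?_⟩, h2⟩
  have h3 : h⁻¹ * g = scg (Units.mk0 c (scalar_ne_zero hc)) := Units.ext hc.symm
  rw [scg_comm, ← h3, mul_inv_cancel_left]

/-- An automorphism `cj g`, the determinant of `g` an `n`-th power, is inner. -/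
theorem inner_of_det {g : GL ι F} {c : Fˣ} (h : Matrix.GeneralLinearGroup.det g = c ^ Fintype.card ι) :
    lift (cj g) ∈ (MulAut.conj : Matrix.ProjectiveSpecialLinearGroup ι F →* _).range := by
  obtain ⟨B, hB⟩ : ∃ B : GL ι F, B = (scg c)⁻¹ * g := ⟨_, rfl⟩
  have hdet : (B : Matrix ι ι F).det = 1 := by
    have h1 : Matrix.GeneralLinearGroup.det B = 1 := by
      rw [hB, map_mul, map_inv, det_scg, h, inv_mul_cancel]
    exact congrArg Units.val h1
  obtain ⟨b, hb⟩ : ∃ b : Matrix.SpecialLinearGroup ι F, (b : Matrix ι ι F) = B :=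
    ⟨⟨(B : Matrix ι ι F), hdet⟩, rfl⟩
  refine ⟨pr b, ?_⟩
  have h3 : (cj g : MulAut (Matrix.SpecialLinearGroup ι F)) = cj B := by
    rw [hB, map_mul, map_inv, cj_scg, inv_one, one_mul]
  apply MulEquiv.ext
  intro x
  obtain ⟨x, rfl⟩ := pr_surjective x
  have h6 : cj B x = b * x * b⁻¹ := by
    apply Subtype.ext
    rw [coe_cj, Matrix.SpecialLinearGroup.coe_mul, Matrix.SpecialLinearGroup.coe_mul, hb]
    congr 1
    have h4 : ((B⁻¹ : GL ι F) : Matrix ι ι F) * (B : Matrix ι ι F) = 1 := by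
      rw [← Units.val_mul, inv_mul_cancel, Units.val_one]
    have h5 : (B : Matrix ι ι F) * ((b⁻¹ : Matrix.SpecialLinearGroup ι F) : Matrix ι ι F) = 1 := by
      rw [← hb, ← Matrix.SpecialLinearGroup.coe_mul, mul_inv_cancel, Matrix.SpecialLinearGroup.coe_one]
    exact left_inv_eq_right_inv h4 h5
  rw [h3, lift_pr, h6, map_mul, map_mul, map_inv]
  rfl

/-- `SL → GL` -/
def tg : Matrix.SpecialLinearGroup ι F →* GL ι F := Matrix.SpecialLinearGroup.toGL

theorem coe_tg (x : Matrix.SpecialLinearGroup ι F) : (tg x : Matrix ι ι F) = x := rfl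

theorem tg_cj (g : GL ι F) (x : Matrix.SpecialLinearGroup ι F) : tg (cj g x) = g * tg x * g⁻¹ := by
  apply Units.ext
  rw [coe_tg, coe_cj]
  rfl

theorem tg_fld (σ : F ≃+* F) (x : Matrix.SpecialLinearGroup ι F) : tg (fld σ x) = fgl σ (tg x) := by
  apply Units.ext
  rfl

theorem pr_eq_iff [Nonempty ι] {x y : Matrix.SpecialLinearGroup ι F} : pr x = pr y ↔ ∃ c : Fˣ, tg y = scg c * tg x := by
  constructor
  · intro h
    obtain ⟨c, hc⟩ := exists_smul_of_pr_eq h
    have hc0 : c ≠ 0 := by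
      rintro rfl
      rw [zero_smul] at hc
      have h1 := y.2
      change (y : Matrix ι ι F).det = 1 at h1
      rw [hc, det_zero] at h1
      exact zero_ne_one h1
    refine ⟨Units.mk0 c hc0, Units.ext ?_⟩
    change (y : Matrix ι ι F) = scalar ι c * (x : Matrix ι ι F)
    rw [hc, scalar_apply, ← smul_one_eq_diagonal, smul_mul_assoc, one_mul]
  · rintro ⟨c, hc⟩
    apply pr_eq_of_smul (c := (c : F))
    have h1 := congrArg Units.val hc
    change (y : Matrix ι ι F) = scalar ι (c : F) * (x : Matrix ι ι F) at h1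
    rw [h1, scalar_apply, ← smul_one_eq_diagonal, smul_mul_assoc, one_mul]

end Lin

section Main

variable {F : Type*} [Field F] [Fintype F] {n : ℕ}

/-- An automorphism of prime order which is not linear fixes an element of order `p`. -/
theorem field_fix (p : ℕ) [Fact p.Prime] [CharP F p] (hn : 2 ≤ n) {ℓ : ℕ} (hℓ : ℓ.Prime) {g : GL (Fin n) F} {σ : F ≃+* F}
    (h : (lift (cj g * fld σ)) ^ ℓ = 1) (hσ : σ ≠ 1) :
    ∃ u : Matrix.ProjectiveSpecialLinearGroup (Fin n) F, u ≠ 1 ∧ u ^ p = 1 ∧ lift (cj g * fld σ) u = u := by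
  have hnt : Nontrivial (Fin n) := Fin.nontrivial_iff_two_le.2 hn
  obtain ⟨-, B, hB⟩ := exists_conj hℓ h hσ
  obtain ⟨i, j, hij⟩ := exists_pair_ne (Fin n)
  have h0 : fld σ (Matrix.SpecialLinearGroup.transvection hij (1 : F)) = Matrix.SpecialLinearGroup.transvection hij (1 : F) := by
    rw [fld_transvection, map_one]
  have h2 : pr (Matrix.SpecialLinearGroup.transvection hij (1 : F)) ≠ 1 := by
    intro h
    have h3 : pr (Matrix.SpecialLinearGroup.transvection hij (1 : F)) = pr (Matrix.SpecialLinearGroup.transvection hij (0 : F)) := by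
      rw [h]
      have : Matrix.SpecialLinearGroup.transvection hij (0 : F) = 1 := by
        apply Subtype.ext
        change (1 : Matrix (Fin n) (Fin n) F) + single i j 0 = 1
        rw [single_zero, add_zero]
      rw [this, map_one]
    exact one_ne_zero (Cfsg.Agent.ClassicalGeometry.AutPSL.Images.pr_transvection_injective hij h3)
  refine ⟨lift (cj B) (pr (Matrix.SpecialLinearGroup.transvection hij (1 : F))), ?_, ?_, ?_⟩
  · intro h
    apply h2
    exact (lift (cj B)).injective (by rw [h, map_one])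
  · rw [← map_pow, ← map_pow]
    have h3 : (Matrix.SpecialLinearGroup.transvection hij (1 : F)) ^ p = 1 := by
      apply Subtype.ext
      rw [Matrix.SpecialLinearGroup.coe_pow]
      change (1 + single i j (1 : F)) ^ p = 1
      rw [add_pow_char_of_commute _ (Commute.one_left _), one_pow]
      obtain ⟨k, hk⟩ : ∃ k, p = k + 2 := ⟨p - 2, by have := (Fact.out : p.Prime).two_le; omega⟩
      rw [hk, pow_add, pow_two, Matrix.single_mul_single_of_ne _ _ _ _ hij.symm, mul_zero, add_zero]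
    rw [h3, map_one, map_one]
  · rw [hB, map_mul, map_mul, MulAut.mul_apply, MulAut.mul_apply, map_inv, MulAut.inv_apply_self]
    congr 1
    rw [lift_pr, h0]

/-- **`PSL_2(F)`** -/
theorem psl_two (p : ℕ) [Fact p.Prime] [CharP F p] (A : Subgroup (MulAut (Matrix.ProjectiveSpecialLinearGroup (Fin 2) F)))
    (hInn : A ⊓ (MulAut.conj : Matrix.ProjectiveSpecialLinearGroup (Fin 2) F →* _).range = ⊥) (hcyc : ¬ IsCyclic A) :
    ∃ a ∈ A, a ≠ 1 ∧ (∀ b ∈ A, a * b = b * a) ∧ ∃ u, u ≠ 1 ∧ u ^ p = 1 ∧ a u = u := by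
  classical
  have hnt : Nontrivial (Fin 2) := inferInstance
  have hfin : Finite A := inferInstance
  have hrep : ∀ a : A, ∃ x : GL (Fin 2) F × (F ≃+* F), (a : MulAut _) = lift (cj x.1 * fld x.2) := by
    intro a
    obtain ⟨g, σ, h2⟩ := surj_two p (a : MulAut (Matrix.ProjectiveSpecialLinearGroup (Fin 2) F))
    exact ⟨(g, σ), h2⟩
  choose P hP using hrep
  let s : A →* (F ≃+* F) :=
    { toFun := fun a => (P a).2
      map_one' := by
        have h1 : lift (cj (P 1).1 * fld (P 1).2) = lift (cj (1 : GL (Fin 2) F) * fld (1 : F ≃+* F)) := by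
          rw [← hP, map_one, map_one, one_mul, map_one]
          rfl
        exact (uniq h1).2
      map_mul' := by
        intro a b
        have h1 : lift (cj (P (a * b)).1 * fld (P (a * b)).2) =
            lift (cj ((P a).1 * fgl (P a).2 (P b).1) * fld ((P a).2 * (P b).2)) := by
          rw [← cjfld_mul, map_mul lift (cj (P a).1 * fld (P a).2), ← hP, ← hP, ← hP]
          rfl
        exact (uniq h1).2 }
  have hcycF : IsCyclic (F ≃+* F) := LieRecognition.FieldSemilinear.isCyclic_ringAut F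
  have hker : s.ker ≠ ⊥ := by
    intro h
    exact hcyc (isCyclic_of_injective s ((MonoidHom.ker_eq_bot_iff s).1 h))
  obtain ⟨⟨t, ht⟩, ht1⟩ := (Subgroup.ne_bot_iff_exists_ne_one).1 hker
  have ht1' : t ≠ 1 := fun h => ht1 (Subtype.ext h)
  -- an element of the kernel is determined by its determinant modulo squares
  have hlin : ∀ x : A, s x = 1 → (x : MulAut (Matrix.ProjectiveSpecialLinearGroup (Fin 2) F)) = lift (cj (P x).1) := by
    intro x hx
    have h1 : (P x).2 = 1 := hx
    rw [hP x, h1, map_one, mul_one]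
  have hsq : ∀ x y : A, s x = 1 → s y = 1 → ∀ c : Fˣ, Matrix.GeneralLinearGroup.det ((P x).1 * (P y).1) = c ^ 2 →
      x * y = 1 := by
    intro x y hx hy c hc
    have h1 : ((x * y : A) : MulAut (Matrix.ProjectiveSpecialLinearGroup (Fin 2) F)) ∈
        A ⊓ (MulAut.conj : Matrix.ProjectiveSpecialLinearGroup (Fin 2) F →* _).range := by
      refine ⟨(x * y).2, ?_⟩
      rw [Subgroup.coe_mul, hlin x hx, hlin y hy, ← map_mul, ← map_mul]
      exact inner_of_det (c := c) (by rw [hc, Fintype.card_fin])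
    rw [hInn, Subgroup.mem_bot] at h1
    exact Subtype.ext h1
  have hdet : ∀ x y : A, s x = 1 → s y = 1 → x ≠ 1 → y ≠ 1 → x * y = 1 := by
    intro x y hx hy hx1 hy1
    have h1 : ∀ z : A, s z = 1 → z ≠ 1 → ¬ IsSquare (Matrix.GeneralLinearGroup.det (P z).1 : F) := by
      intro z hz hz1 hsq
      apply hz1
      obtain ⟨c, hc⟩ := hsq
      have hc0 : c ≠ 0 := by
        rintro rfl
        rw [mul_zero] at hc
        exact (Matrix.GeneralLinearGroup.det (P z).1).ne_zero hc
      have h2 : ((z : A) : MulAut (Matrix.ProjectiveSpecialLinearGroup (Fin 2) F)) ∈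
          A ⊓ (MulAut.conj : Matrix.ProjectiveSpecialLinearGroup (Fin 2) F →* _).range := by
        refine ⟨z.2, ?_⟩
        rw [hlin z hz]
        refine inner_of_det (c := Units.mk0 c hc0) ?_
        rw [Fintype.card_fin]
        apply Units.ext
        rw [Units.val_pow_eq_pow_val, Units.val_mk0, pow_two]
        exact hc
      rw [hInn, Subgroup.mem_bot] at h2
      exact Subtype.ext h2
    have h3 : IsSquare ((Matrix.GeneralLinearGroup.det (P x).1 : F) * (Matrix.GeneralLinearGroup.det (P y).1 : F)) := by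
      by_cases hF : ringChar F = 2
      · exact FiniteField.isSquare_of_char_two hF _
      · have h4 : ∀ z : A, s z = 1 → z ≠ 1 → (Matrix.GeneralLinearGroup.det (P z).1 : F) ^ (Fintype.card F / 2) = -1 := by
          intro z hz hz1
          rcases FiniteField.pow_dichotomy hF (Units.ne_zero (Matrix.GeneralLinearGroup.det (P z).1)) with h | h
          · exact absurd ((FiniteField.isSquare_iff hF (Units.ne_zero _)).2 h) (h1 z hz hz1)
          · exact h
        rw [FiniteField.isSquare_iff hF (mul_ne_zero (Units.ne_zero _) (Units.ne_zero _)), mul_pow, h4 x hx hx1,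
          h4 y hy hy1, neg_one_mul, neg_neg]
    obtain ⟨c, hc⟩ := h3
    have hc0 : c ≠ 0 := by
      rintro rfl
      rw [mul_zero, mul_eq_zero] at hc
      rcases hc with h | h
      · exact Units.ne_zero _ h
      · exact Units.ne_zero _ h
    refine hsq x y hx hy (Units.mk0 c hc0) ?_
    apply Units.ext
    rw [map_mul, Units.val_mul, Units.val_pow_eq_pow_val, Units.val_mk0, pow_two, hc]
  obtain ⟨a, ha2, has, hac⟩ := exists_involution hcyc s t ht ht1' (by
    intro x hx
    by_cases hx1 : x = 1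
    · exact Or.inl hx1
    · right
      have h1 := hdet x t hx ht hx1 ht1'
      have h2 := hdet t t ht ht ht1' ht1'
      rw [← h2, mul_left_inj] at h1
      exact h1)
  refine ⟨a, a.2, ?_, fun b hb => congrArg Subtype.val (hac ⟨b, hb⟩), ?_⟩
  · intro h
    apply has
    have h1 : a = 1 := Subtype.ext h
    rw [h1, map_one]
  · rw [hP a]
    refine field_fix p le_rfl Nat.prime_two ?_ has
    rw [← hP a, ← Subgroup.coe_pow, ha2, Subgroup.coe_one]

end Main

end Cfsg.Agent.H864.FpfPSL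
end
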